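import Mathlib

/-!
# `N(P)/P` in `GL₂(5)` for a nonabelian Sylow 5-subgroup `P` of order 125 with `C(P) ≤ P` (helper345)
-/

set_option autoImplicit false

open scoped Pointwise

namespace Cfsg.Agent.H345.TiM

open Subgroup

universe u v

instance fact5' : Fact (Nat.Prime 5) := ⟨by norm_num⟩

section gl

variable {A : Type u} [CommGroup A] [Finite A]

/-- automorphisms of an elementary abelian group of order 25 are matrices -/
theorem exists_gl (hA : ∀ a : A, a ^ 5 = 1) (hc : Nat.card A = 25) :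
    ∃ f : MulAut A →* GL (Fin 2) (ZMod 5), Function.Injective f := by
  let _ : Module (ZMod 5) (Additive A) := AddCommGroup.zmodModule (n := 5) (fun a => hA a.toMul)
  have hfA : Finite (Additive A) := inferInstanceAs (Finite A)
  let ρ : MulAut A →* Module.End (ZMod 5) (Additive A) :=
    { toFun := fun s => AddMonoidHom.toZModLinearMap 5 (MonoidHom.toAdditive s.toMonoidHom)
      map_one' := by
        ext a
        rfl
      map_mul' := fun s s' => by
        ext a
        rfl }
  have hρ : Function.Injective ρ := by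
    intro s t h
    ext a
    exact congrArg Additive.toMul (LinearMap.congr_fun h (Additive.ofMul a))
  have hfr : Module.finrank (ZMod 5) (Additive A) = 2 := by
    have h1 := Module.natCard_eq_pow_finrank (K := ZMod 5) (V := Additive A)
    have h2 : Nat.card (Additive A) = 25 := hc
    rw [h2, Nat.card_zmod] at h1
    exact (Nat.pow_right_injective (le_refl 2 |>.trans (by norm_num : 2 ≤ 5)) (by simpa using h1)).symm
  let b : Module.Basis (Fin 2) (ZMod 5) (Additive A) := Module.finBasisOfFinrankEq (ZMod 5) (Additive A) hfr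
  let e : Module.End (ZMod 5) (Additive A) ≃* Matrix (Fin 2) (Fin 2) (ZMod 5) := (LinearMap.toMatrixAlgEquiv b).toMulEquiv
  let e' : (Module.End (ZMod 5) (Additive A))ˣ ≃* GL (Fin 2) (ZMod 5) := Units.mapEquiv e
  refine ⟨e'.toMonoidHom.comp (MonoidHom.toHomUnits ρ), e'.injective.comp ?_⟩
  intro s t h
  have h1 := congrArg Units.val h
  rw [MonoidHom.coe_toHomUnits, MonoidHom.coe_toHomUnits] at h1
  exact hρ h1

end gl

section grp

variable {H : Type u} [Group H] [Finite H]

/-- a group of order 125 which is not abelian: centre of order 5, the factor group has exponent 5 -/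
theorem center_five {P : Type v} [Group P] (hP : Nat.card P = 125) (hna : ¬ ∀ a b : P, a * b = b * a) :
    Nat.card (Subgroup.center P) = 5 ∧ (∀ a : P, a ^ 5 ∈ Subgroup.center P) ∧
      ∀ a b : P, a * b * a⁻¹ * b⁻¹ ∈ Subgroup.center P := by
  have hfin : Finite P := Nat.finite_of_card_ne_zero (by rw [hP]; norm_num)
  have hpg : IsPGroup 5 P := IsPGroup.of_card (n := 3) (by rw [hP]; norm_num)
  have hnt : Nontrivial P := by
    rw [← Finite.one_lt_card_iff_nontrivial, hP]; norm_num
  have hcnt : Nontrivial (Subgroup.center P) := hpg.center_nontrivial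
  have hdvd : Nat.card (Subgroup.center P) ∣ 125 := hP ▸ Subgroup.card_subgroup_dvd_card _
  have h1 : 1 < Nat.card (Subgroup.center P) := Finite.one_lt_card
  have hmul : Nat.card (P ⧸ Subgroup.center P) * Nat.card (Subgroup.center P) = 125 := by
    rw [← Subgroup.card_eq_card_quotient_mul_card_subgroup, hP]
  have hcyc : ¬ IsCyclic (P ⧸ Subgroup.center P) := by
    intro hcy
    exact hna fun a b => (MonoidHom.isMulCommutative_of_isCyclic_of_ker_le_center (QuotientGroup.mk' (Subgroup.center P))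
      (by rw [QuotientGroup.ker_mk'])).is_comm.comm a b
  have hz : Nat.card (Subgroup.center P) = 5 := by
    have h2 : Nat.card (Subgroup.center P) = 5 ∨ Nat.card (Subgroup.center P) = 25 ∨ Nat.card (Subgroup.center P) = 125 := by
      have h3 : (125 : ℕ) = 5 ^ 3 := by norm_num
      rw [h3, Nat.dvd_prime_pow (by norm_num : Nat.Prime 5)] at hdvd
      obtain ⟨k, hk, h4⟩ := hdvd
      interval_cases k <;> simp_all
    rcases h2 with h2 | h2 | h2
    · exact h2
    · exfalso
      rw [h2] at hmul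
      exact hcyc (isCyclic_of_prime_card (p := 5) (by omega))
    · exfalso
      rw [h2] at hmul
      have h5 : Nat.card (P ⧸ Subgroup.center P) = 1 := by omega
      have : Subsingleton (P ⧸ Subgroup.center P) := (Nat.card_eq_one_iff_unique.1 h5).1
      exact hcyc isCyclic_of_subsingleton
  have hq : Nat.card (P ⧸ Subgroup.center P) = 5 ^ 2 := by rw [hz] at hmul; omega
  have hcomm : ∀ a b : P ⧸ Subgroup.center P, a * b = b * a :=
    (IsPGroup.isMulCommutative_of_card_eq_prime_sq hq).is_comm.comm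
  refine ⟨hz, ?_, ?_⟩
  · intro a
    have h2 : ((a : P ⧸ Subgroup.center P)) ^ 5 = 1 := by
      by_contra hne
      -- the order is 25
      have h3 : orderOf (a : P ⧸ Subgroup.center P) ∣ 5 ^ 2 := hq ▸ orderOf_dvd_natCard _
      rw [Nat.dvd_prime_pow (by norm_num : Nat.Prime 5)] at h3
      obtain ⟨k, hk, h4⟩ := h3
      interval_cases k
      · exact hne (orderOf_dvd_iff_pow_eq_one.1 (by rw [h4]; norm_num))
      · exact hne (orderOf_dvd_iff_pow_eq_one.1 (by rw [h4]; norm_num))
      · exact hcyc (isCyclic_of_orderOf_eq_card _ (by rw [h4, hq]))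
    rw [← QuotientGroup.mk_pow, QuotientGroup.eq_one_iff] at h2
    exact h2
  · intro a b
    rw [← QuotientGroup.eq_one_iff, QuotientGroup.mk_mul, QuotientGroup.mk_mul, QuotientGroup.mk_mul,
      QuotientGroup.mk_inv, QuotientGroup.mk_inv, hcomm (a : P ⧸ Subgroup.center P) b, mul_assoc, mul_assoc,
      mul_inv_cancel_left, mul_inv_cancel]

/-- an automorphism of `P` which is trivial on `P/Z(P)` has order dividing 5 -/
theorem pow_five {P : Type v} [Group P] (hP : Nat.card P = 125) (hna : ¬ ∀ a b : P, a * b = b * a) (φ : MulAut P)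
    (h : ∀ a : P, φ a * a⁻¹ ∈ Subgroup.center P) (a : P) : (φ ^ 5) a = a := by
  have hfin : Finite P := Nat.finite_of_card_ne_zero (by rw [hP]; norm_num)
  obtain ⟨hz, -, hcom⟩ := center_five hP hna
  -- a generator of the centre
  obtain ⟨u, v, huv⟩ : ∃ u v : P, u * v * u⁻¹ * v⁻¹ ≠ 1 := by
    by_contra hcon
    push Not at hcon
    exact hna fun a b => by
      have h1 := hcon a b
      rw [mul_inv_eq_one, mul_inv_eq_iff_eq_mul] at h1
      exact h1
  have hfix0 : φ (u * v * u⁻¹ * v⁻¹) = u * v * u⁻¹ * v⁻¹ := by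
    have h1 := Subgroup.mem_center_iff.1 (h u)
    have h2 := Subgroup.mem_center_iff.1 (h v)
    obtain ⟨s, hs⟩ : ∃ s, s = φ u * u⁻¹ := ⟨_, rfl⟩
    obtain ⟨t, ht⟩ : ∃ t, t = φ v * v⁻¹ := ⟨_, rfl⟩
    rw [← hs] at h1
    rw [← ht] at h2
    have h3 : φ u = s * u := by rw [hs]; group
    have h4 : φ v = t * v := by rw [ht]; group
    rw [map_mul, map_mul, map_mul, map_inv, map_inv, h3, h4]
    have e1 : s * u * (t * v) = (s * t) * (u * v) := by
      rw [mul_assoc, ← mul_assoc u t v, h2 u, mul_assoc, mul_assoc]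
    have e2 : (s * u)⁻¹ = s⁻¹ * u⁻¹ := by
      rw [mul_inv_rev]
      have := h1 u
      have h5 : (u * s)⁻¹ = (s * u)⁻¹ := by rw [this]
      rw [mul_inv_rev, mul_inv_rev] at h5
      exact h5.symm
    have e3 : (t * v)⁻¹ = t⁻¹ * v⁻¹ := by
      rw [mul_inv_rev]
      have := h2 v
      have h5 : (v * t)⁻¹ = (t * v)⁻¹ := by rw [this]
      rw [mul_inv_rev, mul_inv_rev] at h5
      exact h5.symm
    rw [e1, e2, e3]
    have c1 : ∀ w, w * s⁻¹ = s⁻¹ * w := fun w => by
      rw [eq_inv_mul_iff_mul_eq, ← mul_assoc, ← h1 w, mul_assoc, mul_inv_cancel, mul_one]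
    have c2 : ∀ w, w * t⁻¹ = t⁻¹ * w := fun w => by
      rw [eq_inv_mul_iff_mul_eq, ← mul_assoc, ← h2 w, mul_assoc, mul_inv_cancel, mul_one]
    calc s * t * (u * v) * (s⁻¹ * u⁻¹) * (t⁻¹ * v⁻¹)
        = s * t * ((u * v) * s⁻¹) * u⁻¹ * t⁻¹ * v⁻¹ := by group
      _ = s * t * (s⁻¹ * (u * v)) * u⁻¹ * t⁻¹ * v⁻¹ := by rw [c1]
      _ = s * t * s⁻¹ * ((u * v * u⁻¹) * t⁻¹) * v⁻¹ := by group
      _ = s * t * s⁻¹ * (t⁻¹ * (u * v * u⁻¹)) * v⁻¹ := by rw [c2]
      _ = s * (t * s⁻¹) * t⁻¹ * (u * v * u⁻¹) * v⁻¹ := by group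
      _ = s * (s⁻¹ * t) * t⁻¹ * (u * v * u⁻¹) * v⁻¹ := by rw [c1]
      _ = u * v * u⁻¹ * v⁻¹ := by group
  have hgen : ∀ z ∈ Subgroup.center P, φ z = z := by
    intro z hz'
    set w : Subgroup.center P := ⟨u * v * u⁻¹ * v⁻¹, hcom u v⟩ with hw
    have hw1 : w ≠ 1 := fun h5 => huv (congrArg Subtype.val h5)
    have hmem : (⟨z, hz'⟩ : Subgroup.center P) ∈ Subgroup.zpowers w := by
      rw [zpowers_eq_top_of_prime_card hz hw1]
      exact Subgroup.mem_top _
    obtain ⟨k, hk⟩ := Subgroup.mem_zpowers_iff.1 hmem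
    have hk' : z = (u * v * u⁻¹ * v⁻¹) ^ k := by
      have := congrArg Subtype.val hk
      exact this.symm
    rw [hk', map_zpow, hfix0]
  have hpow : ∀ k : ℕ, (φ ^ k) a = (φ a * a⁻¹) ^ k * a := by
    intro k
    induction k with
    | zero => rw [pow_zero, pow_zero, one_mul]; rfl
    | succ k ih =>
      rw [pow_succ', MulAut.mul_apply, ih, map_mul, map_pow, hgen _ (h a), pow_succ]
      group
  rw [hpow 5]
  have h5 : (⟨φ a * a⁻¹, h a⟩ : Subgroup.center P) ^ 5 = 1 := by
    rw [← hz]
    exact pow_card_eq_one'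
  have h6 : (φ a * a⁻¹) ^ 5 = 1 := congrArg Subtype.val h5
  rw [h6, one_mul]

omit [Finite H] in
/-- **The embedding lemma** -/
theorem exists_emb (P : Sylow 5 H) (hcard : Nat.card P = 125) (hna : ¬ ∀ a b : P, a * b = b * a)
    (hC : Subgroup.centralizer ((P : Subgroup H) : Set H) ≤ (P : Subgroup H)) :
    ∃ f : (Subgroup.normalizer ((P : Subgroup H) : Set H)) ⧸
        ((P : Subgroup H).subgroupOf (Subgroup.normalizer ((P : Subgroup H) : Set H))) →* GL (Fin 2) (ZMod 5),
      Function.Injective f := by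
  obtain ⟨hz, hexp, hcom⟩ := center_five hcard hna
  set N := Subgroup.normalizer ((P : Subgroup H) : Set H) with hN
  let C : Subgroup P := Subgroup.center P
  let V := P ⧸ C
  let instV : CommGroup V :=
    { (inferInstance : Group V) with
      mul_comm := fun a b => by
        obtain ⟨a, rfl⟩ := QuotientGroup.mk_surjective a
        obtain ⟨b, rfl⟩ := QuotientGroup.mk_surjective b
        have h1 : (QuotientGroup.mk (a * b * a⁻¹ * b⁻¹) : P ⧸ C) = 1 := (QuotientGroup.eq_one_iff _).2 (hcom a b)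
        have h2 : (QuotientGroup.mk (a * b) : P ⧸ C) = QuotientGroup.mk (b * a) := by
          have h3 : a * b = (a * b * a⁻¹ * b⁻¹) * (b * a) := by group
          rw [h3, QuotientGroup.mk_mul, h1, one_mul]
        exact h2 }
  have hVc : Nat.card V = 25 := by
    have h1 : Nat.card P = Nat.card (P ⧸ C) * Nat.card C := Subgroup.card_eq_card_quotient_mul_card_subgroup _
    have h2 : Nat.card C = 5 := hz
    have h3 : Nat.card V = Nat.card (P ⧸ C) := rfl
    rw [hcard, h2] at h1
    omega
  have hVe : ∀ a : V, a ^ 5 = 1 := by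
    intro a
    obtain ⟨a, rfl⟩ := QuotientGroup.mk_surjective a
    exact (QuotientGroup.eq_one_iff _).2 (hexp a)
  have hmap : ∀ φ : MulAut P, C.map (φ : P →* P) = C := fun φ =>
    Subgroup.characteristic_iff_map_eq.1 inferInstance φ
  let θ : MulAut P →* MulAut V :=
    { toFun := fun φ => QuotientGroup.congr C C φ (hmap φ)
      map_one' := by
        ext a
        obtain ⟨a, rfl⟩ := QuotientGroup.mk_surjective a
        rfl
      map_mul' := fun φ ψ => by
        ext a
        obtain ⟨a, rfl⟩ := QuotientGroup.mk_surjective a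
        rfl }
  have hθ : ∀ (φ : MulAut P) (a : P), θ φ = 1 → φ a * a⁻¹ ∈ C := by
    intro φ a h
    have h1 : θ φ (QuotientGroup.mk a) = QuotientGroup.mk a := by rw [h]; rfl
    have h2 : (QuotientGroup.mk (φ a) : P ⧸ C) = QuotientGroup.mk a := h1
    rw [← QuotientGroup.eq_one_iff, QuotientGroup.mk_mul, QuotientGroup.mk_inv, h2, mul_inv_cancel]
  have hθ' : ∀ φ : MulAut P, (∀ a : P, φ a * a⁻¹ ∈ C) → θ φ = 1 := by
    intro φ h
    ext a
    obtain ⟨a, rfl⟩ := QuotientGroup.mk_surjective a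
    have h2 : (QuotientGroup.mk (φ a) : P ⧸ C) = QuotientGroup.mk a := by
      have h3 : φ a = (φ a * a⁻¹) * a := by group
      rw [h3, QuotientGroup.mk_mul, (QuotientGroup.eq_one_iff _).2 (h a), one_mul]
    exact h2
  let κ : N →* MulAut P := Subgroup.normalizerMonoidHom (P : Subgroup H)
  have hκ : ∀ (n : N) (a : P), ((κ n a : P) : H) = n * a * (n : H)⁻¹ := fun n a => rfl
  have hker : ∀ n : N, θ (κ n) = 1 ↔ n ∈ (P : Subgroup H).subgroupOf N := by
    intro n
    constructor
    · intro h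
      have h1 : ∀ a : P, ((κ n) ^ 5) a = a := fun a => pow_five hcard hna (κ n) (fun a => hθ _ a h) a
      have h2 : ((n : H) ^ 5) ∈ (P : Subgroup H) := by
        apply hC
        rw [Subgroup.mem_centralizer_iff]
        intro a ha
        have h3 := congrArg (Subtype.val : P → H) (h1 ⟨a, ha⟩)
        rw [← map_pow, hκ] at h3
        have h4 : (n : H) ^ 5 * a * ((n : H) ^ 5)⁻¹ = a := h3
        rw [mul_inv_eq_iff_eq_mul] at h4
        exact h4.symm
      have h5 : (n : H) ^ 5 ^ 4 = 1 := by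
        have h6 : (⟨(n : H) ^ 5, h2⟩ : P) ^ 125 = 1 := by
          rw [← hcard]
          exact pow_card_eq_one'
        have h7 : ((n : H) ^ 5) ^ 125 = 1 := congrArg Subtype.val h6
        rw [← pow_mul] at h7
        exact h7
      have h8 : IsPGroup 5 (Subgroup.zpowers (n : H)) := by
        intro x
        refine ⟨4, ?_⟩
        obtain ⟨k, hk⟩ := Subgroup.mem_zpowers_iff.1 x.2
        apply Subtype.ext
        rw [Subgroup.coe_pow, ← hk, Subgroup.coe_one, ← zpow_natCast, ← zpow_mul, mul_comm, zpow_mul, zpow_natCast, h5,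
          one_zpow]
      have h9 := IsPGroup.inf_normalizer_sylow h8 P
      have h10 : (n : H) ∈ Subgroup.zpowers (n : H) ⊓ (P : Subgroup H) := h9 ▸ ⟨Subgroup.mem_zpowers _, n.2⟩
      exact Subgroup.mem_subgroupOf.2 h10.2
    · intro h
      apply hθ'
      intro a
      have h1 := hcom ⟨n, Subgroup.mem_subgroupOf.1 h⟩ a
      have h2 : κ n a = (⟨n, Subgroup.mem_subgroupOf.1 h⟩ : P) * a * (⟨n, Subgroup.mem_subgroupOf.1 h⟩ : P)⁻¹ :=
        Subtype.ext rfl
      rw [h2]
      exact h1
  have hVf : Finite V := Nat.finite_of_card_ne_zero (by rw [hVc]; norm_num)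
  obtain ⟨f, hf⟩ := exists_gl hVe hVc
  let g : N ⧸ ((P : Subgroup H).subgroupOf N) →* MulAut V :=
    QuotientGroup.lift _ (θ.comp κ) fun n hn => (hker n).2 hn
  refine ⟨f.comp g, hf.comp ?_⟩
  rw [injective_iff_map_eq_one]
  intro x hx
  obtain ⟨n, rfl⟩ := QuotientGroup.mk_surjective x
  exact (QuotientGroup.eq_one_iff _).2 ((hker n).1 hx)

end grp

end Cfsg.Agent.H345.TiM
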