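import Cfsg.Agent.H681.TI.McLRow
import Cfsg.Agent.H681.TI.McLLoc
import Cfsg.Agent.H476.TI.McLCent
import Cfsg.Agent.H359.CT.McLCnt
import Cfsg.Agent.H41.McLTwo.Pack
import Cfsg.Agent.H608.TI.LocGen

/-!
# The glue of the row `McL` of S4819, S4820 (helper345)

Inputs: `Loc12` (`k(N(R)/R) = 12` and `9 ∤ |N(R)|` in `McL`), `Loc18` (`k(N(R)/R) = 18` in `McL.2`), the count 19 for `3.McL`.
-/

set_option autoImplicit false
set_option maxRecDepth 100000

open Cfsg
open scoped Pointwise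

namespace Cfsg.Agent.H345.TiM

universe u

/-- the class number of `N(R)/R` -/
noncomputable abbrev kNP {X : Type u} [Group X] (R : Sylow 5 X) : ℕ :=
  Nat.card (ConjClasses ((Subgroup.normalizer ((R : Subgroup X) : Set X)) ⧸
    ((R : Subgroup X).subgroupOf (Subgroup.normalizer ((R : Subgroup X) : Set X)))))

/-- the local count of `McL` -/
def Loc12 : Prop := ∀ (X : Type u) [Group X] [Finite X], Spor.IsoMcL X → ∀ R : Sylow 5 X,
  H34.TI.IsTI (R : Subgroup X) → kNP R = 12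

/-- `9` does not divide the order of the normalizer -/
def LocNine : Prop := ∀ (X : Type u) [Group X] [Finite X], Spor.IsoMcL X → ∀ R : Sylow 5 X,
  H34.TI.IsTI (R : Subgroup X) → ¬ 9 ∣ Nat.card (Subgroup.normalizer ((R : Subgroup X) : Set X))

/-- the local count of `McL.2` -/
def Loc18 : Prop := ∀ (H : Type u) [Group H] [Finite H] (S : Subgroup H), S.Normal → S.index = 2 →
  Subgroup.centralizer (S : Set H) = ⊥ → Spor.IsoMcL S → ∀ R : Sylow 5 H, H34.TI.IsTI (R : Subgroup H) → kNP R = 18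

/-- the input `hloc` of helper681's `hN_of` -/
theorem hloc_of (h12 : Loc12.{u}) (h9 : LocNine.{u}) (X : Type u) [Group X] [Finite X] (hX : Spor.IsoMcL X)
    (R : Sylow 5 X) (hR : H723.TI.TIs R) :
    Nat.card (ConjClasses (Subgroup.normalizer ((R : Subgroup X) : Set X))) = 19 ∧
      ¬ 9 ∣ Nat.card (Subgroup.normalizer ((R : Subgroup X) : Set X)) := by
  haveI : Fact (Nat.Prime 5) := ⟨Nat.prime_five⟩
  refine ⟨?_, h9 X hX R hR⟩
  obtain ⟨e⟩ := H359.CT.McL.exists_e hX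
  have h1 := H608.TI.locGen 5 X R hR
  have h2 : kNP R = 12 := h12 X hX R hR
  rw [h1, H359.CT.McL.card_sing e]
  unfold kNP at h2
  omega

/-- The class list and the characters of `McL` in helper41's form -/
theorem exists_data {T : Type u} [Group T] [Finite T] (h : Spor.IsoMcL T) : Nonempty (H41.McLTwo.McLData T) := by
  obtain ⟨e⟩ := H359.CT.McL.exists_e h
  exact ⟨H41.McLTwo.McLData.mk' e (H359.CT.McL.clT e) (fun _ => rfl) (fun _ => rfl) (H359.CT.McL.tab e)
    H359.CT.McL.dR H359.CT.McL.dP H359.CT.McL.hdR H359.CT.McL.hdP (by decide +kernel) (by decide +kernel)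
    (by decide +kernel) (by decide +kernel) H359.CT.McL.n625R H359.CT.McL.n625P⟩

/-- `Cnt` for `McL.2` -/
theorem cnt_two (h18 : Loc18.{u}) {H : Type u} [Group H] [Finite H] {S : Subgroup H} (hS : S.Normal) (hN : S.index = 2)
    (hC : Subgroup.centralizer (S : Set H) = ⊥) (hT : Spor.IsoMcL S) : H34.TI.Cnt 5 H := by
  haveI := hS
  obtain ⟨M⟩ := exists_data hT
  exact H41.McLTwo.cnt_of H608.TI.locGen M hN hC hT (h18 H S hS hN hC hT)

/-- `Cnt` for `McL` -/
theorem cnt_one (h12 : Loc12.{u}) {H : Type u} [Group H] [Finite H] (hT : Spor.IsoMcL H) : H34.TI.Cnt 5 H :=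
  H359.CT.McL.cnt_isoMcL hT H608.TI.locGen (h12 H hT)

/-- `Cnt` for the almost simple groups with socle `McL` -/
theorem cnt_alm (h12 : Loc12.{u}) (h18 : Loc18.{u}) {H : Type u} [Group H] [Finite H] {S : Subgroup H}
    (hA : H681.TI.Alm S) (hS : Spor.IsoMcL S) : H34.TI.Cnt 5 H := by
  obtain ⟨e⟩ := id hS
  rcases hA.index_prime e Nat.prime_two S2073.result with h | h
  · rw [Subgroup.index_eq_one] at h
    subst h
    exact cnt_one h12 ⟨(Subgroup.topEquiv (G := H)).symm.trans e⟩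
  · exact cnt_two h18 hA.normal h hA.cent hS

/-- **The row `McL` of S4819** -/
theorem rowMcL_of_loc (h12 : Loc12.{u}) (h9 : LocNine.{u}) (h18 : Loc18.{u})
    (hE : ∀ (E : Type u) [Group E] [Finite E], commutator E = ⊤ → ∀ (Z : Subgroup E) [Z.Normal],
      Z ≤ Subgroup.center E → Nat.card Z = 3 → Spor.IsoMcL (E ⧸ Z) → ∀ l : Z →* ℂˣ, l ≠ 1 →
      Nat.card {η : IrrCharacter E // (∀ z : Z, (η : E → ℂ) z = (l z : ℂ) * (η : E → ℂ) 1) ∧
        ¬ H681.TI.DZ 5 (η : E → ℂ)} = 19) :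
    H723.TI.RowMcL.{u} :=
  H681.TI.rowMcL_of (fun H _ _ S hA h R hR x hx h5 => H476.TI.McLCent.hC H S hA h R hR x hx h5)
    (fun H _ _ S hA h => cnt_alm h12 h18 hA h) 19 hE
    (fun E _ _ _ Z _ hZ hc hiso l _ R hR => H681.TI.hN_of 19 (hloc_of h12 h9) E Z hZ hc hiso l R hR)

end Cfsg.Agent.H345.TiM
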