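import Cfsg.Agent.H345.TiM.Glue
import Cfsg.Agent.H41.McLTwo.LocF
import Cfsg.Agent.H86.TI.ThreeMcL

/-!
# The row `McL` of S4819 and S4820 (helper345; inputs of helpers 41, 86, 359, 476, 681, 608)
-/

set_option autoImplicit false

open Cfsg
open scoped Pointwise

namespace Cfsg.Agent.H345.TiM

universe u

/-- **S4820, socle `McL`** -/
theorem cntAlm {H : Type u} [Group H] [Finite H] {S : Subgroup H} (hA : H681.TI.Alm S) (hS : Spor.IsoMcL S) :
    H34.TI.Cnt 5 H := by
  obtain ⟨e⟩ := id hS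
  have := hA.normal
  exact H41.McLTwo.cnt_both S (hA.index_prime e Nat.prime_two S2073.result) hA.cent hS

/-- **The row `McL` of S4819** -/
theorem rowMcL : H723.TI.RowMcL.{u} :=
  H681.TI.rowMcL_of (fun _ _ _ S hA h R hR x hx h5 => H476.TI.McLCent.hC _ S hA h R hR x hx h5)
    (fun _ _ _ _ hA h => cntAlm hA h) 19
    (fun _ _ _ hp Z _ hZ hc h l hl => H86.TI.card_three_mcl hp Z hZ hc h l hl)
    (fun E _ _ _ Z _ hZ hc hiso l _ R hR =>
      H681.TI.hN_of 19 (fun _ _ _ hX R hR => H41.McLTwo.hloc hX R hR) E Z hZ hc hiso l R hR)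

end Cfsg.Agent.H345.TiM
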